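import Groth.Agent.Subtr56.ProperEff.Noeth
import Groth.Agent.Subtr56.DatumLim.Descend
import Groth.Agent.Hens22.ProperModel
import Groth.Agent.LimTop61.FgSubalgLimit

/-! Effective descent of étale schemes along proper surjections of finite presentation. -/

set_option autoImplicit false
set_option linter.style.haveILetI false
set_option backward.isDefEq.respectTransparency false
set_option backward.defeqAttrib.useBackward true

universe u

open CategoryTheory CategoryTheory.Limits AlgebraicGeometry TopologicalSpace Opposite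

noncomputable section

namespace Groth.Agent.Subtr56.ProperEff

open Desc Groth.Agent.Desc59 Groth.Agent.Eff84

theorem denseRange_subalgCone_π {A B : CommRingCat.{u}} [Algebra A B] (j : (LimTop61.FgSubalg A B)ᵒᵖ) :
    DenseRange ((LimTop61.subalgCone A B).π.app j) :=
  PrimeSpectrum.denseRange_comap_iff_ker_le_nilRadical _ |>.mpr
    ((RingHom.injective_iff_ker_eq_bot j.unop.1.val.toRingHom).mp Subtype.val_injective |>.trans_le bot_le)

theorem exists_isQuot_affine {R : CommRingCat.{u}} {S' : Scheme.{u}} {g : S' ⟶ Spec R} [IsProper g]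
    [Surjective g] [LocallyOfFinitePresentation g] (D : SchDD g) [Etale D.obj.hom]
    [QuasiCompact D.obj.hom] [IsSeparated D.obj.hom] :
    ∃ (U : Over (Spec R)) (π : D.obj.left ⟶ U.left), Etale U.hom ∧ IsQuot D U π := by
  obtain ⟨A₁, _, _, _, X₁, f₁, _, q₀, hq₀⟩ := Hens22.ProperModel.exists_proper_model R g
  let Z : CommRingCat.{u} := CommRingCat.of A₁
  let : Algebra Z R := ‹Algebra A₁ R›
  let E := LimTop61.subalgSpec Z R
  let c := LimTop61.subalgCone Z R
  have hc : IsLimit c := LimTop61.isLimitSubalgCone Z R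
  let i : (LimTop61.FgSubalg Z R)ᵒᵖ := op ⟨⊥, Subalgebra.fg_bot⟩
  have : IsDirectedOrder (LimTop61.FgSubalg Z R) :=
    ⟨fun S T => ⟨⟨S.1 ⊔ T.1, S.2.sup T.2⟩, le_sup_left (a := S.1), le_sup_right (a := S.1)⟩⟩
  have : Nonempty (LimTop61.FgSubalg Z R) := ⟨⟨⊥, Subalgebra.fg_bot⟩⟩
  have : IsFiltered (LimTop61.FgSubalg Z R) := isFiltered_of_directed_le_nonempty _
  have : IsCofiltered (LimTop61.FgSubalg Z R)ᵒᵖ := isCofiltered_op_of_isFiltered _
  let tS : E.obj i ⟶ Spec Z := Spec.map (CommRingCat.ofHom (algebraMap Z i.unop.1))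
  have hπ : c.π.app i ≫ tS = Spec.map (CommRingCat.ofHom (algebraMap A₁ R)) := by
    simp only [c, tS, LimTop61.subalgCone, Functor.mapCone_π_app]
    erw [← Spec.map_comp]
    rfl
  let a := pullback.snd f₁ tS
  let q : S' ⟶ pullback f₁ tS := pullback.lift q₀ (g ≫ c.π.app i) (by rw [Category.assoc, hπ]; exact hq₀.w)
  have hq : IsPullback q g a (c.π.app i) := by
    refine IsPullback.of_right ?_ (pullback.lift_snd _ _ _) (IsPullback.of_hasPullback f₁ tS)
    rw [pullback.lift_fst, hπ]
    exact hq₀
  have : IsProper a := MorphismProperty.pullback_snd _ _ ‹IsProper f₁›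
  have : CompactSpace ↥(pullback f₁ tS) := QuasiCompact.compactSpace_of_compactSpace a
  have : QuasiSeparatedSpace ↥(pullback f₁ tS) := quasiSeparatedSpace_of_quasiSeparated a
  let X := LimTop61.bcDiagram E a
  let Y := Over.forget i ⋙ E
  let gn : X ⟶ Y := LimTop61.bcSnd E a
  let cX := LimTop61.bcCone E c a q g hq.w
  let cY : Cone Y := c.whisker (Over.forget i)
  let gl : cX.pt ⟶ cY.pt := g
  have hgl : ∀ j, cX.π.app j ≫ gn.app j = gl ≫ cY.π.app j := fun j => pullback.lift_snd _ _ _
  have hX : IsLimit cX := LimTop61.isLimitBcCone E c hc a q g hq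
  have hY : IsLimit cY := (Functor.Initial.isLimitWhiskerEquiv (Over.forget i) c).symm hc
  have : ∀ (j k : Over i) (φ : j ⟶ k), IsAffineHom (Y.map φ) := fun j k φ =>
    inferInstanceAs (IsAffineHom (E.map φ.left))
  have hp : ∀ j, IsProper (gn.app j) := fun j => MorphismProperty.pullback_snd _ _ ‹IsProper a›
  have : ∀ j, QuasiCompact (gn.app j) := fun j => have := hp j; inferInstance
  have : ∀ j, QuasiSeparated (gn.app j) := fun j => have := hp j; inferInstance
  have : ∀ j, CompactSpace (X.obj j) := fun j => LimTop61.bcDiagram_compactSpace E a j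
  have : ∀ j, QuasiSeparatedSpace (X.obj j) := fun j => LimTop61.bcDiagram_quasiSeparatedSpace E a j
  have : IsCofiltered (Over i) := inferInstance
  obtain ⟨j, D', b, hb, het, hsep, hqc, hθ⟩ := DatumLim.exists_stage_datum (g := gn) (hgl := hgl) hX hY D
  have : IsNoetherianRing ↥j.left.unop.1 := by
    have : Algebra.FiniteType Z ↥j.left.unop.1 := ⟨(Subalgebra.fg_top _).mpr j.left.unop.2⟩
    have : IsNoetherianRing Z := ‹IsNoetherianRing A₁›
    exact Algebra.FiniteType.isNoetherianRing Z _
  have : IsLocallyNoetherian (Y.obj j) :=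
    inferInstanceAs (IsLocallyNoetherian (Spec (CommRingCat.of ↥j.left.unop.1)))
  have : IsProper (gn.app j) := hp j
  have : Surjective (gn.app j) := by
    constructor
    intro y
    have hcl : IsClosed (Set.range (gn.app j)) := (gn.app j).isClosedMap.isClosed_range
    have hsub : Set.range (c.π.app j.left) ⊆ Set.range (gn.app j) := by
      rintro _ ⟨x, rfl⟩
      obtain ⟨x', rfl⟩ := g.surjective x
      exact ⟨cX.π.app j x', congrArg (fun m => m x') (hgl j)⟩
    have hd : DenseRange (c.π.app j.left) := denseRange_subalgCone_π j.left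
    exact hcl.closure_subset_iff.mpr hsub (hd y)
  have : LocallyOfFinitePresentation (gn.app j) :=
    LocallyOfFinitePresentation.iff_locallyOfFiniteType.mpr inferInstance
  obtain ⟨U, hUqc, hUsep, hUet, hiso⟩ := effective_of_proper_noetherian D'
  obtain ⟨U', π, hπ', rfl⟩ := exists_isQuot_of_iso hiso
  obtain ⟨π', h'⟩ := DatumLim.exists_isQuot_of_stage (g := gn) (hgl := hgl) D' b hb hθ hπ'
  exact ⟨_, π', MorphismProperty.pullback_snd _ _ hUet, h'⟩

theorem effective_of_proper {S' S : Scheme.{u}} {g : S' ⟶ S} [IsProper g] [Surjective g]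
    [LocallyOfFinitePresentation g] (D : SchDD g) [Etale D.obj.hom] [QuasiCompact D.obj.hom]
    [IsSeparated D.obj.hom] :
    ∃ U : Over S, QuasiCompact U.hom ∧ IsSeparated U.hom ∧ Etale U.hom ∧ Nonempty ((toDD g).obj U ≅ D) := by
  have hg : SGA1.UnivSubmersive g := univSubmersive_of_universallyClosed g
  let F : SchDDFam (fun _ : PUnit.{1} => g) := (SchDDFam.ofSchDD g).obj D
  have : Etale (F.obj PUnit.unit).hom := ‹Etale D.obj.hom›
  have : QuasiCompact (F.obj PUnit.unit).hom := ‹QuasiCompact D.obj.hom›
  have : QuasiSeparated (F.obj PUnit.unit).hom := inferInstanceAs (QuasiSeparated D.obj.hom)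
  obtain ⟨U, het, hiso⟩ := exists_fam_of_forall_stalk F hg fun a => by
    show EffAt D (S.fromSpecStalk a)
    let p := S.fromSpecStalk a
    let hsq : pullback.fst g p ≫ g = pullback.snd g p ≫ p := pullback.condition
    let E := pullDD hsq D
    have : IsProper (pullback.snd g p) := MorphismProperty.pullback_snd g p ‹IsProper g›
    have : Surjective (pullback.snd g p) := MorphismProperty.pullback_snd g p ‹Surjective g›
    have : Etale E.obj.hom := inferInstanceAs (Etale (pullback.snd D.obj.hom (pullback.fst g p)))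
    have : QuasiCompact E.obj.hom := inferInstanceAs (QuasiCompact (pullback.snd D.obj.hom (pullback.fst g p)))
    have : IsSeparated E.obj.hom := inferInstanceAs (IsSeparated (pullback.snd D.obj.hom (pullback.fst g p)))
    obtain ⟨U, π, het, hU⟩ := exists_isQuot_affine E
    exact (effAt_iff hsq).mpr ⟨U, het, hU.nonempty_iso⟩
  exact exists_effective_of_fam hg U het ((nonempty_fam_iff U F).mp hiso)

end Groth.Agent.Subtr56.ProperEff
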