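import Groth.Agent.Subtr56.ProperEff.Sum
import Groth.Agent.Subtr56.UnivOpenCrit
import Groth.Agent.Eff84.Completion
import Groth.Agent.Hensel20.SectionsLift
import Groth.Agent.S17961

/-! Sections of an étale descent datum over a henselian base extend from the closed fibre. -/

set_option autoImplicit false
set_option linter.style.haveILetI false
set_option backward.isDefEq.respectTransparency false

universe u

open CategoryTheory CategoryTheory.Limits AlgebraicGeometry TopologicalSpace

noncomputable section

namespace Groth.Agent.Subtr56.ProperEff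

open Desc Groth.Agent.Desc59 Groth.Agent.Eff84

theorem subsingleton_pt {k : Type u} [Field k] (p q : Spec (CommRingCat.of k)) : p = q :=
  Subsingleton.elim (α := PrimeSpectrum k) p q

theorem flat_of_field {k : Type u} [Field k] {X : Scheme.{u}} (f : X ⟶ Spec (CommRingCat.of k)) : Flat f := by
  refine HasRingHomProperty.iff_appLE.mpr fun U V e => ?_
  rcases eq_or_ne U.1 ⊤ with h | h
  · obtain ⟨U, hU⟩ := U
    obtain rfl : U = ⊤ := h
    let ee := (Scheme.ΓSpecIso (CommRingCat.of k)).commRingCatIsoToRingEquiv
    letI : Field Γ(Spec (CommRingCat.of k), ⊤) := (ee.toMulEquiv.isField (Field.toIsField k)).toField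
    letI := (f.appLE ⊤ V.1 e).hom.toAlgebra
    exact (inferInstance : Module.Flat Γ(Spec (CommRingCat.of k), ⊤) Γ(X, V.1))
  · have hU : U.1 = ⊥ := by
      refine le_bot_iff.mp fun p hp => h (top_le_iff.mp fun q _ => ?_)
      rwa [subsingleton_pt q p]
    have hV : V.1 = ⊥ := le_bot_iff.mp fun x hx => by
      have := e hx
      rw [hU] at this
      exact this
    haveI : Subsingleton Γ(X, V.1) := by rw [hV]; infer_instance
    letI := (f.appLE U.1 V.1 e).hom.toAlgebra
    exact (inferInstance : Module.Flat Γ(Spec (CommRingCat.of k), U.1) Γ(X, V.1))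

/-- An étale quasi-compact scheme over an algebraically closed field is a finite set of rational points. -/
theorem exists_points {k : Type u} [Field k] [IsAlgClosed k] {P : Scheme.{u}}
    (u : P ⟶ Spec (CommRingCat.of k)) [Etale u] [QuasiCompact u] :
    ∃ (σ : Type u) (_ : Finite σ) (s : σ → (Spec (CommRingCat.of k) ⟶ P)),
      (∀ c, s c ≫ u = 𝟙 _) ∧ (∀ x : P, ∃ c, s c (IsLocalRing.closedPoint k) = x) ∧
      Function.Injective fun c => s c (IsLocalRing.closedPoint k) := by
  have : LocallyQuasiFinite u := Unr55.locallyQuasiFinite_of_formallyUnramified u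
  let c0 := IsLocalRing.closedPoint k
  have huniv : u ⁻¹' {c0} = Set.univ := Set.eq_univ_of_forall fun x => subsingleton_pt _ _
  have hfin : Finite P := Set.finite_univ_iff.mp (huniv ▸ u.finite_preimage_singleton c0)
  have : DiscreteTopology P := by
    have := u.isDiscrete_preimage_singleton c0
    rw [huniv] at this
    exact isDiscrete_univ_iff.mp this
  have key : ∀ x : P, ∃ t : Spec (CommRingCat.of k) ⟶ P, t ≫ u = 𝟙 _ ∧ t c0 = x := fun x => by
    let W : P.Opens := ⟨{x}, isOpen_discrete _⟩
    obtain ⟨t, ht⟩ := exists_rational_point (W.ι ≫ u) (⟨x, rfl⟩ : W)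
    refine ⟨t ≫ W.ι, by rw [Category.assoc, ht], ?_⟩
    exact (t c0).2
  choose t ht htx using key
  exact ⟨P, hfin, t, ht, fun x => ⟨x, htx x⟩, fun a b hab => by simpa [htx, c0] using hab⟩

variable {B : Type u} [CommRing B] [IsLocalRing B]

/-- The closed point of a local scheme. -/
abbrev clPt : Spec (CommRingCat.of (B ⧸ IsLocalRing.maximalIdeal B)) ⟶ Spec (CommRingCat.of B) :=
  Spec.map (CommRingCat.ofHom (Ideal.Quotient.mk (IsLocalRing.maximalIdeal B)))

theorem range_clPt : Set.range (clPt (B := B)) = {IsLocalRing.closedPoint B} := by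
  show Set.range (PrimeSpectrum.comap (Ideal.Quotient.mk (IsLocalRing.maximalIdeal B))) = _
  rw [range_comap_of_surjective _ _ Ideal.Quotient.mk_surjective, Ideal.mk_ker]
  exact PrimeSpectrum.zeroLocus_eq_singleton _

theorem eq_empty_of_closedFibre {X : Scheme.{u}} (f : X ⟶ Spec (CommRingCat.of B)) [UniversallyClosed f]
    {Z : Set X} (hZ : IsClosed Z) (h : ∀ z : ↥(pullback f (clPt (B := B))), pullback.fst f clPt z ∉ Z) :
    Z = ∅ := by
  by_contra hne
  obtain ⟨x, hx⟩ := Set.nonempty_iff_ne_empty.mpr hne
  have hsp : f x ⤳ IsLocalRing.closedPoint B := IsLocalRing.specializes_closedPoint (R := B) (f x)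
  obtain ⟨y, hy, hfy⟩ := hsp.mem_closed (f.isClosedMap _ hZ) ⟨x, hx, rfl⟩
  obtain ⟨z, hz⟩ : y ∈ Set.range (pullback.fst f (clPt (B := B))) := by
    rw [Scheme.Pullback.range_fst, range_clPt]
    exact hfy
  exact h z (hz ▸ hy)

/-- Two maps into a separated unramified scheme agreeing on the closed fibre are equal. -/
theorem eq_of_closedFibre {T V W : Scheme.{u}} (f : T ⟶ Spec (CommRingCat.of B)) [UniversallyClosed f]
    (d : V ⟶ W) [Etale d] (a b : T ⟶ V) (hab : a ≫ d = b ≫ d)
    (h : pullback.fst f (clPt (B := B)) ≫ a = pullback.fst f clPt ≫ b) : a = b := by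
  let q : T ⟶ pullback d d := pullback.lift a b hab
  let δ := pullback.diagonal d
  have hopen : IsOpen (q ⁻¹' Set.range δ) := (IsOpenImmersion.isOpen_range δ).preimage q.continuous
  have h0 := eq_empty_of_closedFibre f hopen.isClosed_compl fun z hz => hz
    ⟨(pullback.fst f clPt ≫ a) z, by
      rw [← Scheme.Hom.comp_apply, ← Scheme.Hom.comp_apply]
      refine congrArg (fun φ : _ ⟶ pullback d d => φ z) ?_
      apply pullback.hom_ext
      · simp [δ, q]
      · simp [δ, q, h]⟩
  have hrange : Set.range q ⊆ Set.range δ := by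
    rintro _ ⟨s, rfl⟩
    by_contra hs
    exact (Set.eq_empty_iff_forall_notMem.mp h0 s) hs
  have hl := IsOpenImmersion.lift_fac δ q hrange
  calc a = q ≫ pullback.fst d d := (pullback.lift_fst _ _ _).symm
    _ = IsOpenImmersion.lift δ q hrange ≫ δ ≫ pullback.fst d d := by rw [reassoc_of% hl]
    _ = IsOpenImmersion.lift δ q hrange ≫ δ ≫ pullback.snd d d := by
        rw [pullback.diagonal_fst, pullback.diagonal_snd]
    _ = q ≫ pullback.snd d d := by rw [reassoc_of% hl]
    _ = b := pullback.lift_snd _ _ _

variable [IsNoetherianRing B] [HenselianRing B (IsLocalRing.maximalIdeal B)]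
  {S' : Scheme.{u}} {g : S' ⟶ Spec (CommRingCat.of B)} (D : SchDD g)

/-- The closed fibre of an étale descent datum over a henselian base with algebraically closed residue
field is spanned by invariant sections. -/
theorem exists_invariant_sections [IsAlgClosed (IsLocalRing.ResidueField B)] [IsProper g] [Surjective g]
    [QuasiCompact D.obj.hom] [IsSeparated D.obj.hom] [Etale D.obj.hom] :
    ∃ (σ : Type u) (_ : Finite σ) (u : σ → (S' ⟶ D.obj.left)),
      (∃ hu : ∀ c, u c ≫ D.obj.hom = 𝟙 _,
      ∀ c, pullback.map g g g (dY D) (𝟙 S') (u c) (𝟙 _) (by simp)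
        (by rw [Category.comp_id, dY, reassoc_of% hu c]) ≫ θ D = pullback.fst g g ≫ u c) ∧
      (∀ v, dY D v = IsLocalRing.closedPoint B → ∃ c, v ∈ Set.range (u c)) ∧
      (∀ c d v, v ∈ Set.range (u c) → v ∈ Set.range (u d) → c = d) := by
  let k := B ⧸ IsLocalRing.maximalIdeal B
  letI : Field k := Ideal.Quotient.field _
  haveI : IsAlgClosed k := ‹IsAlgClosed (IsLocalRing.ResidueField B)›
  let i : Spec (CommRingCat.of k) ⟶ Spec (CommRingCat.of B) := clPt
  let iS := pullback.fst g i
  let gk := pullback.snd g i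
  have hsq : pullback.fst g i ≫ g = pullback.snd g i ≫ i := pullback.condition
  let E := pullDD hsq D
  have : Flat gk := flat_of_field gk
  have : Etale E.obj.hom := inferInstanceAs (Etale (pullback.snd D.obj.hom iS))
  have : IsSeparated E.obj.hom := inferInstanceAs (IsSeparated (pullback.snd D.obj.hom iS))
  have : QuasiCompact E.obj.hom := inferInstanceAs (QuasiCompact (pullback.snd D.obj.hom iS))
  obtain ⟨U₁, hqc, -, het, hiso⟩ := effective_of_fpqc gk E
  obtain ⟨U, π', hIQ, rfl⟩ := exists_isQuot_of_iso hiso
  obtain ⟨π, hπ⟩ := exists_quotAt (D := D) (p := i) (hsq := hsq) hIQ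
  obtain ⟨σ, hσ, s, hs, hscov, hsinj⟩ := exists_points U.hom
  -- sections on the closed fibre
  have hcart := hπ.cart
  let tl : σ → (pullback g i ⟶ pullback (dY D) i) := fun c => hcart.lift (gk ≫ s c) iS (by
    rw [Category.assoc, reassoc_of% hs c]
    exact hsq.symm)
  have htl1 : ∀ c, tl c ≫ π = gk ≫ s c := fun c => hcart.lift_fst _ _ _
  have htl2 : ∀ c, tl c ≫ pullback.fst (dY D) i ≫ D.obj.hom = iS := fun c => hcart.lift_snd _ _ _
  let t : σ → (pullback g i ⟶ D.obj.left) := fun c => tl c ≫ pullback.fst (dY D) i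
  haveI : IsClosedImmersion i := IsClosedImmersion.spec_of_surjective _ Ideal.Quotient.mk_surjective
  haveI : IsClosedImmersion iS := MorphismProperty.pullback_fst g i inferInstance
  have ha : Hensel20.SectionsLift.ClopenLift iS := S17961.result B (IsLocalRing.maximalIdeal B) g
  have : CompactSpace S' := QuasiCompact.compactSpace_of_compactSpace g
  have : QuasiSeparatedSpace S' := quasiSeparatedSpace_of_quasiSeparated g
  choose u hu hut using fun c => Hensel20.SectionsLift.exists_section ha D.obj.hom (t c) (by
    show (tl c ≫ _) ≫ _ = iS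
    rw [Category.assoc, htl2])
  have hu' : ∀ c, u c ≫ dY D = g := fun c => by rw [dY, reassoc_of% hu c]
  -- the points of the closed fibre
  have hval : ∀ c {T : Scheme.{u}} (x : T ⟶ S') (w : T ⟶ Spec (CommRingCat.of k)) (hx : x ≫ g = w ≫ i),
      pullback.lift (x ≫ u c) w (by rw [Category.assoc, hu' c, hx]) ≫ π = w ≫ s c := by
    intro c T x w hx
    let l : T ⟶ pullback g i := pullback.lift x w hx
    have e : pullback.lift (x ≫ u c) w (by rw [Category.assoc, hu' c, hx]) = l ≫ tl c := by
      apply pullback.hom_ext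
      · rw [pullback.lift_fst, Category.assoc, show tl c ≫ pullback.fst (dY D) i = iS ≫ u c from (hut c).symm,
          pullback.lift_fst_assoc]
      · rw [pullback.lift_snd, Category.assoc, ← hπ.w, reassoc_of% htl1 c, hs, Category.comp_id,
          pullback.lift_snd]
    rw [e, Category.assoc, htl1, pullback.lift_snd_assoc]
  refine ⟨σ, hσ, u, ⟨hu, fun c => ?_⟩, fun v hv => ?_, fun c d v hvc hvd => ?_⟩
  · let m : pullback g g ⟶ src D := pullback.map g g g (dY D) (𝟙 S') (u c) (𝟙 _) (by simp)
      (by rw [Category.comp_id, hu' c])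
    let f := pullback.fst g g ≫ g
    refine eq_of_closedFibre f D.obj.hom _ _ ?_ ?_
    · rw [Category.assoc, θ_hom, pullback.lift_fst, Category.assoc, hu c, Category.comp_id]
    let W := pullback f (clPt (B := B))
    let a : W ⟶ pullback g g := pullback.fst f clPt
    let w : W ⟶ Spec (CommRingCat.of k) := pullback.snd f clPt
    have hw : a ≫ pullback.fst g g ≫ g = w ≫ i := pullback.condition
    have hw' : a ≫ pullback.snd g g ≫ g = w ≫ i := by rw [← pullback.condition]; exact hw
    let τ : W ⟶ pullback (rY D) i := pullback.lift (a ≫ m) w (by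
      simp only [Category.assoc, rY, m, pullback.lift_snd_assoc, hu' c]
      exact hw')
    have hwθ : (a ≫ m ≫ θ D) ≫ dY D = w ≫ i := by
      simp only [Category.assoc]
      rw [θ_dY, rY, pullback.lift_snd_assoc, Category.assoc, hu' c]
      exact hw'
    have h1 : τ ≫ bcS (θ D) (θ_dY D) i = pullback.lift (a ≫ m ≫ θ D) w hwθ := by
      apply pullback.hom_ext <;> simp [τ]
    have h2 : τ ≫ bcS (pullback.snd g (dY D)) rfl i = pullback.lift ((a ≫ pullback.snd g g) ≫ u c) w (by
        simp only [Category.assoc, hu' c]; exact hw') := by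
      apply pullback.hom_ext <;> simp [τ, m]
    have key : pullback.lift (a ≫ m ≫ θ D) w hwθ =
        pullback.lift ((a ≫ pullback.fst g g) ≫ u c) w (by simp only [Category.assoc, hu' c]; exact hw) := by
      apply hcart.hom_ext
      · rw [← h1, Category.assoc, hπ.inv, ← Category.assoc, h2, hval c (a ≫ pullback.snd g g) w (by rw [Category.assoc]; exact hw'),
          hval c (a ≫ pullback.fst g g) w (by rw [Category.assoc]; exact hw)]
      · simp [m, hu c]
    have := congrArg (fun φ => φ ≫ pullback.fst (dY D) i) key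
    simpa [m] using this
  · obtain ⟨v', hv'⟩ : v ∈ Set.range (pullback.fst (dY D) i) := by
      rw [Scheme.Pullback.range_fst, show Set.range i = _ from range_clPt]
      exact hv
    obtain ⟨c, hc⟩ := hscov (π v')
    have H : IsPullback (tl c) gk π (s c) := by
      refine (IsPullback.of_right (h₁₂ := pullback.fst (dY D) i ≫ D.obj.hom) (h₂₂ := U.hom ≫ i) (v₁₃ := g)
        ?_ (htl1 c) hcart.flip)
      rw [htl2, show s c ≫ U.hom ≫ i = i from by rw [reassoc_of% hs c]]
      exact IsPullback.of_hasPullback g i
    obtain ⟨z, hz, -⟩ := Scheme.exists_preimage_of_isPullback H v' (IsLocalRing.closedPoint k) hc.symm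
    refine ⟨c, iS z, ?_⟩
    rw [← Scheme.Hom.comp_apply, hut c, Scheme.Hom.comp_apply, hz, hv']
  · by_contra hcd
    have hcl : ∀ e, IsClosed (Set.range (u e)) := fun e => by
      have : IsClosedImmersion (u e ≫ D.obj.hom) := by rw [hu e]; infer_instance
      have : IsClosedImmersion (u e) := IsClosedImmersion.of_comp (u e) D.obj.hom
      exact (u e).isClosedEmbedding.isClosed_range
    obtain ⟨x, rfl⟩ := hvc
    have hne : x ∈ u c ⁻¹' Set.range (u d) := hvd
    have h0 := eq_empty_of_closedFibre g ((hcl d).preimage (u c).continuous) (fun z ⟨y, hy⟩ => ?_)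
    · exact Set.eq_empty_iff_forall_notMem.mp h0 x hne
    have hyx : y = iS z := by
      have := congrArg D.obj.hom hy
      rwa [← Scheme.Hom.comp_apply, ← Scheme.Hom.comp_apply, hu, hu] at this
    rw [hyx, ← Scheme.Hom.comp_apply, hut, ← Scheme.Hom.comp_apply, hut] at hy
    -- compare the values of the quotient map
    have hpt : ∀ e, π (tl e z) = s e (IsLocalRing.closedPoint k) := fun e => by
      rw [← Scheme.Hom.comp_apply, htl1, Scheme.Hom.comp_apply]
      congr 1
      exact subsingleton_pt _ _
    have hinj : Function.Injective (pullback.fst (dY D) i) := by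
      have : IsClosedImmersion i := IsClosedImmersion.spec_of_surjective _ Ideal.Quotient.mk_surjective
      exact (pullback.fst (dY D) i).isClosedEmbedding.injective
    refine hcd (hsinj ?_)
    show s c _ = s d _
    rw [← hpt c, ← hpt d]
    exact congrArg π (hinj hy).symm

end Groth.Agent.Subtr56.ProperEff
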