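import Groth.Agent.Subtr56.ProperEff.Closed

/-! Effectivity over a henselian local base from effectivity over the punctured spectrum. -/

set_option autoImplicit false
set_option linter.style.haveILetI false
set_option backward.isDefEq.respectTransparency false

universe u

open CategoryTheory CategoryTheory.Limits AlgebraicGeometry TopologicalSpace

noncomputable section

namespace Groth.Agent.Subtr56.ProperEff

open Desc Groth.Agent.Desc59 Groth.Agent.Eff84

variable {S' S : Scheme.{u}} {g : S' ⟶ S} {D : SchDD g}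

theorem isQuotOn_range_section (u : S' ⟶ D.obj.left) [IsOpenImmersion u] (hu : u ≫ D.obj.hom = 𝟙 _)
    (hinv : pullback.map g g g (dY D) (𝟙 S') u (𝟙 _) (by simp)
        (by rw [Category.comp_id, dY, reassoc_of% hu]) ≫ θ D = pullback.fst g g ≫ u) :
    IsQuotOn D u.opensRange (Over.mk (𝟙 S)) (u.opensRange.ι ≫ dY D) := by
  refine ⟨isSat_of_le fun t ht => ?_, ?_, fun t a b ha hb => ?_⟩
  · obtain ⟨x, hx⟩ := ht
    have hr : t ∈ Set.range (pullback.map g g g (dY D) (𝟙 S') u (𝟙 _) (by simp)
        (by rw [Category.comp_id, dY, reassoc_of% hu])) := by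
      rw [Scheme.Pullback.range_map]
      exact ⟨⟨pullback.fst g (dY D) t, rfl⟩, ⟨x, hx⟩⟩
    obtain ⟨z, rfl⟩ := hr
    refine ⟨pullback.fst g g z, ?_⟩
    rw [← Scheme.Hom.comp_apply, ← hinv, Scheme.Hom.comp_apply]
  · let e := u.isoOpensRange
    have he : e.hom ≫ u.opensRange.ι = u := u.isoOpensRange_hom_ι
    have : IsIso (u.opensRange.ι ≫ D.obj.hom) := by
      have e2 : u.opensRange.ι ≫ D.obj.hom = e.inv := by
        rw [← cancel_epi e.hom, reassoc_of% he, hu, e.hom_inv_id]
      rw [e2]; infer_instance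
    have : IsIso (Over.mk (𝟙 S)).hom := inferInstanceAs (IsIso (𝟙 S))
    exact IsPullback.of_vert_isIso ⟨by simp [dY]⟩
  · rw [reassoc_of% ha, reassoc_of% hb, θ_dY]

/-- A saturated clopen part of a datum which is effective over an open subscheme descends to it. -/
theorem exists_isQuotOn_of_effAt [Surjective g] [UniversallyClosed g] {S₁ : Scheme.{u}} (j : S₁ ⟶ S)
    [IsOpenImmersion j] (h : EffAt D j) (O : D.obj.left.Opens) (hsat : IsSat D O) (hO : ∀ v ∈ O, dY D v ∈ Set.range j) :
    ∃ (U : Over S) (π : O.toScheme ⟶ U.left), Etale U.hom ∧ IsQuotOn D O U π := by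
  obtain ⟨U, π, het, hπ⟩ := h
  have hcart := hπ.cart
  have : UniversallyClosed π := MorphismProperty.of_isPullback hcart.flip ‹UniversallyClosed g›
  have : Surjective π := MorphismProperty.of_isPullback hcart.flip ‹Surjective g›
  let q := pullback.fst (dY D) j
  let A : Set ↥(pullback (dY D) j) := q ⁻¹' O
  have rel : ∀ a b, π a = π b → a ∈ A → b ∈ A := by
    intro a b hab ha
    obtain ⟨z, hza, hzb⟩ := Scheme.Pullback.exists_preimage_pullback (f := π) (g := π) a b hab
    let za := pullback.fst π π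
    let zb := pullback.snd π π
    have hw : za ≫ pullback.snd (dY D) j = zb ≫ pullback.snd (dY D) j := by
      rw [← hπ.w, pullback.condition_assoc]
    have hd : za ≫ q ≫ dY D = zb ≫ q ≫ dY D := by
      simp only [q, pullback.condition]
      rw [reassoc_of% hw]
    let t : pullback π π ⟶ src D := pullback.lift (zb ≫ q ≫ D.obj.hom) (za ≫ q) (by
      simp only [Category.assoc]
      exact hd.symm)
    have ht : t ≫ pullback.snd g (dY D) = za ≫ q := pullback.lift_snd _ _ _
    have htj : t ≫ rY D = (za ≫ pullback.snd (dY D) j) ≫ j := by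
      rw [rY, reassoc_of% ht, pullback.condition, Category.assoc]
    let τ : pullback π π ⟶ pullback (rY D) j := pullback.lift t (za ≫ pullback.snd (dY D) j) htj
    have h2 : τ ≫ bcS (pullback.snd g (dY D)) rfl j = za := by
      apply pullback.hom_ext <;> simp [τ, ht, q]
    have h1 : τ ≫ bcS (θ D) (θ_dY D) j = zb := by
      apply hcart.hom_ext
      · rw [Category.assoc, hπ.inv, reassoc_of% h2]
        exact pullback.condition
      · simp only [Category.assoc, pullback.lift_fst_assoc, τ, θ_hom, t, pullback.lift_fst, q]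
    have htθ : t ≫ θ D = zb ≫ q := by
      rw [← h1]; simp [τ, q]
    show q b ∈ O
    rw [← hzb, ← Scheme.Hom.comp_apply, ← htθ, Scheme.Hom.comp_apply]
    refine (Iff.of_eq congr(t z ∈ $hsat)).mpr ?_
    show pullback.snd g (dY D) (t z) ∈ O
    rw [← Scheme.Hom.comp_apply, ht, Scheme.Hom.comp_apply, hza]
    exact ha
  have hV : IsOpen (π '' A) := by
    rw [← isClosed_compl_iff]
    have e : (π '' A)ᶜ = π '' Aᶜ := by
      ext y
      obtain ⟨x, rfl⟩ := π.surjective y
      refine ⟨fun hy => ⟨x, fun hx => hy ⟨x, hx, rfl⟩, rfl⟩, ?_⟩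
      rintro ⟨x', hx', e'⟩ ⟨x'', hx'', e''⟩
      exact hx' (rel x'' x' (e''.trans e'.symm) hx'')
    rw [e]
    exact π.isClosedMap _ (O.2.preimage q.continuous).isClosed_compl
  let V : U.left.Opens := ⟨π '' A, hV⟩
  have hr : Set.range O.ι ⊆ Set.range q := by
    rw [Scheme.Opens.range_ι]
    intro v hv
    rw [Scheme.Pullback.range_fst]
    exact hO v hv
  let l := IsOpenImmersion.lift q O.ι hr
  have hl : l ≫ q = O.ι := IsOpenImmersion.lift_fac _ _ _
  have hlV : Set.range (l ≫ π) ⊆ Set.range V.ι := by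
    rw [Scheme.Opens.range_ι]
    rintro _ ⟨x, rfl⟩
    refine ⟨l x, ?_, rfl⟩
    show q (l x) ∈ O
    rw [← Scheme.Hom.comp_apply, hl]
    exact x.2
  let π₀ := IsOpenImmersion.lift V.ι (l ≫ π) hlV
  have hπ₀ : π₀ ≫ V.ι = l ≫ π := IsOpenImmersion.lift_fac _ _ _
  refine ⟨Over.mk (V.ι ≫ U.hom ≫ j), π₀, inferInstanceAs (Etale (V.ι ≫ U.hom ≫ j)), hsat, ?_,
    fun t a b ha hb => ?_⟩
  · have H : IsPullback π₀ l V.ι π := by
      refine (IsOpenImmersion.isPullback π₀ l V.ι π hπ₀.symm ?_).flip.flip
      rw [Scheme.Opens.opensRange_ι]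
      ext x
      refine ⟨fun hx => ?_, fun hx => ?_⟩
      · obtain ⟨x', hx', e⟩ := hx
        have : x ∈ A := rel x' x e hx'
        refine ⟨⟨q x, this⟩, ?_⟩
        refine q.isOpenEmbedding.injective ?_
        rw [← Scheme.Hom.comp_apply, hl]
        rfl
      · obtain ⟨y, rfl⟩ := hx
        refine ⟨l y, ?_, rfl⟩
        show q (l y) ∈ O
        rw [← Scheme.Hom.comp_apply, hl]
        exact y.2
    have := H.paste_vert hcart
    rwa [reassoc_of% hl] at this
  · rw [← cancel_mono V.ι, Category.assoc, Category.assoc, hπ₀]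
    have haq : a ≫ l ≫ q = t ≫ θ D := by rw [hl, ha]
    have hbq : b ≫ l ≫ q = t ≫ pullback.snd g (dY D) := by rw [hl, hb]
    have hbj : t ≫ rY D = (b ≫ l ≫ pullback.snd (dY D) j) ≫ j := by
      rw [rY, ← reassoc_of% hbq]
      simp only [Category.assoc, q, pullback.condition]
    let τ : _ ⟶ pullback (rY D) j := pullback.lift t (b ≫ l ≫ pullback.snd (dY D) j) hbj
    have h2 : τ ≫ bcS (pullback.snd g (dY D)) rfl j = b ≫ l := by
      apply pullback.hom_ext <;> simp [τ, ← hbq, q]
    have h1 : τ ≫ bcS (θ D) (θ_dY D) j = a ≫ l := by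
      rw [← cancel_mono q, Category.assoc, Category.assoc, pullback.lift_fst, haq]
      simp [τ]
    rw [← reassoc_of% h1, hπ.inv, reassoc_of% h2]

variable {B : Type u} [CommRing B] [IsLocalRing B] [IsNoetherianRing B]
  [HenselianRing B (IsLocalRing.maximalIdeal B)]

theorem exists_isQuot_henselian [IsAlgClosed (IsLocalRing.ResidueField B)] {S' : Scheme.{u}}
    {g : S' ⟶ Spec (CommRingCat.of B)} [IsProper g] [Surjective g] (D : SchDD g)
    [QuasiCompact D.obj.hom] [IsSeparated D.obj.hom] [Etale D.obj.hom]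
    (P : (Spec (CommRingCat.of B)).Opens) (hP : (P : Set ↥(Spec (CommRingCat.of B))) = {IsLocalRing.closedPoint B}ᶜ)
    (h : EffAt D P.ι) :
    ∃ (U : Over (Spec (CommRingCat.of B))) (π : D.obj.left ⟶ U.left), Etale U.hom ∧ IsQuot D U π := by
  classical
  obtain ⟨σ, _, u, ⟨hu, hinv⟩, hcov, hdisj⟩ := exists_invariant_sections D
  have hoi : ∀ c, IsOpenImmersion (u c) := fun c => by
    have : Etale (u c ≫ D.obj.hom) := by rw [hu c]; infer_instance
    have : Etale (u c) := Etale.of_comp (u c) D.obj.hom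
    have : IsClosedImmersion (u c ≫ D.obj.hom) := by rw [hu c]; infer_instance
    have : IsClosedImmersion (u c) := IsClosedImmersion.of_comp (u c) D.obj.hom
    exact Sga84.isOpenImmersion_of_etale (u c)
  have hcl : ∀ c, IsClosed (Set.range (u c)) := fun c => by
    have : IsClosedImmersion (u c ≫ D.obj.hom) := by rw [hu c]; infer_instance
    have : IsClosedImmersion (u c) := IsClosedImmersion.of_comp (u c) D.obj.hom
    exact (u c).isClosedEmbedding.isClosed_range
  have hq : ∀ c, IsQuotOn D (u c).opensRange (Over.mk (𝟙 _)) ((u c).opensRange.ι ≫ dY D) :=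
    fun c => isQuotOn_range_section (u c) (hu c) (hinv c)
  have hunion : IsClosed (⋃ c, Set.range (u c)) := isClosed_iUnion_of_finite hcl
  let O : D.obj.left.Opens := ⟨(⋃ c, Set.range (u c))ᶜ, hunion.isOpen_compl⟩
  have hsat : IsSat D O := by
    ext t
    show θ D t ∈ (⋃ c, Set.range (u c))ᶜ ↔ pullback.snd g (dY D) t ∈ (⋃ c, Set.range (u c))ᶜ
    simp only [Set.mem_compl_iff, Set.mem_iUnion]
    exact not_congr (exists_congr fun c => Iff.of_eq congr(t ∈ $((hq c).sat)))
  obtain ⟨U₀, π₀, het₀, hq₀⟩ := exists_isQuotOn_of_effAt P.ι h O hsat fun v hv => by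
    rw [Scheme.Opens.range_ι, hP]
    intro hv'
    obtain ⟨c, hc⟩ := hcov v hv'
    exact hv (Set.mem_iUnion.2 ⟨c, hc⟩)
  let Os : Option σ → D.obj.left.Opens := fun c => c.elim O fun c => (u c).opensRange
  let Us : Option σ → Over (Spec (CommRingCat.of B)) := fun c => c.elim U₀ fun _ => Over.mk (𝟙 _)
  let πs : ∀ c, (Os c).toScheme ⟶ (Us c).left := fun c => match c with
    | none => π₀
    | some c => (u c).opensRange.ι ≫ dY D
  obtain ⟨π', hπ'⟩ := exists_isQuot_of_disjoint Os Us πs
    (fun c => by cases c with | none => exact hq₀ | some c => exact hq c)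
    (fun v => by
      by_cases hv : v ∈ ⋃ c, Set.range (u c)
      · obtain ⟨c, hc⟩ := Set.mem_iUnion.1 hv
        exact ⟨some c, hc⟩
      · exact ⟨none, hv⟩)
    (fun c d v hc hd => by
      cases c with
      | none => cases d with
        | none => rfl
        | some d => exact absurd (Set.mem_iUnion.2 ⟨d, hd⟩) hc
      | some c => cases d with
        | none => exact absurd (Set.mem_iUnion.2 ⟨c, hc⟩) hd
        | some d => rw [hdisj c d v hc hd])
  refine ⟨Over.mk (Sigma.desc fun c => (Us c).hom), π', ?_, hπ'⟩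
  have : ∀ c, Etale (Us c).hom := fun c => by
    cases c with
    | none => exact het₀
    | some c => exact inferInstanceAs (Etale (𝟙 (Spec (CommRingCat.of B))))
  exact IsZariskiLocalAtSource.sigmaDesc fun c => this c

end Groth.Agent.Subtr56.ProperEff
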