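import Groth.Agent.Subtr56.ProperEff.Core
import Groth.Agent.Eff84.Gonflement
import Mathlib.RingTheory.Ideal.Height
import Mathlib.RingTheory.Henselian

/-! Effective descent of étale schemes along proper surjections of locally Noetherian schemes. -/

set_option autoImplicit false
set_option linter.style.haveILetI false
set_option backward.isDefEq.respectTransparency false

universe u

open CategoryTheory CategoryTheory.Limits AlgebraicGeometry TopologicalSpace

noncomputable section

namespace Groth.Agent.Subtr56.ProperEff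

open Desc Groth.Agent.Desc59 Groth.Agent.Eff84

/-- A proper surjection is universally submersive. -/
theorem univSubmersive_of_universallyClosed {X Y : Scheme.{u}} (f : X ⟶ Y) [UniversallyClosed f] [Surjective f] :
    SGA1.UnivSubmersive f := fun _ _ _ _ q hq => by
  have : UniversallyClosed q := MorphismProperty.of_isPullback hq.flip ‹_›
  have : Surjective q := MorphismProperty.of_isPullback hq.flip ‹_›
  exact q.isClosedMap.isQuotientMap q.continuous q.surjective

/-- Gonflement with control of the maximal ideal. -/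
theorem exists_complete_algClosed' (R : Type u) [CommRing R] [IsLocalRing R] [IsNoetherianRing R] :
    ∃ (B : Type u) (_ : CommRing B) (_ : IsNoetherianRing B) (_ : IsLocalRing B)
      (_ : IsAdicComplete (IsLocalRing.maximalIdeal B) B) (_ : IsAlgClosed (IsLocalRing.ResidueField B))
      (_ : Algebra R B), Module.FaithfullyFlat R B ∧
        (IsLocalRing.maximalIdeal R).map (algebraMap R B) = IsLocalRing.maximalIdeal B := by
  classical
  obtain ⟨R', _, _, _, _, hflat, hmap, ⟨e⟩⟩ := CAlg1.Gonfl.exists_extension (R := R)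
    (K := AlgebraicClosure (IsLocalRing.ResidueField R))
  have hfg : (IsLocalRing.maximalIdeal R').FG :=
    hmap ▸ Ideal.FG.map (IsNoetherian.noetherian (IsLocalRing.maximalIdeal R)) _
  let B := AdicCompletion (IsLocalRing.maximalIdeal R') R'
  have hB : IsLocalRing B := AdicCompletion.isLocalRing_of_fg hfg
  have hBc : IsAdicComplete (IsLocalRing.maximalIdeal B) B := AdicCompletion.isAdicComplete_of_fg hfg
  have : IsNoetherianRing (R' ⧸ IsLocalRing.maximalIdeal R') :=
    inferInstanceAs (IsNoetherianRing (IsLocalRing.ResidueField R'))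
  have hBn : IsNoetherianRing B := CAlg1.isNoetherianRing_adicCompletion _ hfg
  have hBloc : IsLocalHom (algebraMap R' B) := AdicCompletion.algebraMap_isLocalHom_of_fg hfg
  have : IsLocalHom (algebraMap R B) := by
    rw [IsScalarTower.algebraMap_eq R R' B]
    infer_instance
  have : IsAlgClosed (IsLocalRing.ResidueField R') := isAlgClosed_of_ringEquiv e.symm.toRingEquiv
  have hk : IsAlgClosed (IsLocalRing.ResidueField B) :=
    isAlgClosed_of_ringEquiv (RingEquiv.ofBijective _ (AdicCompletion.residueField_map_bijective_of_fg hfg))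
  have hmax : (IsLocalRing.maximalIdeal R).map (algebraMap R B) = IsLocalRing.maximalIdeal B := by
    rw [IsScalarTower.algebraMap_eq R R' B, ← Ideal.map_map, hmap]
    exact (AdicCompletion.maximalIdeal_eq_map_of_fg hfg).symm
  have hJ : (IsLocalRing.maximalIdeal R).map (algebraMap R B) ≤ Ideal.jacobson ⊥ :=
    hmax.le.trans (IsLocalRing.maximalIdeal_le_jacobson _)
  have : Module.Flat R B := by
    refine CAlg7.flat_of_forall_flat_mod_pow (S := B) (IsLocalRing.maximalIdeal R) hJ fun k _ => ?_
    let a := IsLocalRing.maximalIdeal R ^ k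
    have ha : a.map (algebraMap R R') = IsLocalRing.maximalIdeal R' ^ k := by rw [Ideal.map_pow, hmap]
    have h1 : Module.Flat (R ⧸ a) (TensorProduct R (R ⧸ a) R') := Module.Flat.baseChange R (R ⧸ a) R'
    let ev : B →ₗ[R] (R' ⧸ IsLocalRing.maximalIdeal R' ^ k) :=
      ((AdicCompletion.evalₐ (IsLocalRing.maximalIdeal R') k).restrictScalars R).toLinearMap
    have hev : Function.Surjective ev := AdicCompletion.surjective_evalₐ _ k
    have hker : LinearMap.ker ev = (a • ⊤ : Submodule R B) := by
      rw [Ideal.smul_top_eq_map, IsScalarTower.algebraMap_eq R R' B, ← Ideal.map_map, ha]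
      ext b
      rw [LinearMap.mem_ker, Submodule.restrictScalars_mem]
      have h2 := SetLike.ext_iff.mp (AdicCompletion.pow_smul_top_eq_ker_eval
        (I := IsLocalRing.maximalIdeal R') (M := R') (n := k) hfg) b
      rw [Ideal.smul_top_eq_map, Submodule.restrictScalars_mem, LinearMap.mem_ker] at h2
      rw [h2]
      show AdicCompletion.evalₐ (IsLocalRing.maximalIdeal R') k b = 0 ↔ _
      rw [← AdicCompletion.factor_eval_eq_evalₐ _ _ (le_of_eq (Ideal.mul_top _))]
      obtain ⟨y, hy⟩ := Ideal.Quotient.mk_surjective (AdicCompletion.eval (IsLocalRing.maximalIdeal R') R' k b)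
      rw [← hy]
      refine Iff.trans (b := y ∈ IsLocalRing.maximalIdeal R' ^ k) ?_
        (Ideal.Quotient.eq_zero_iff_mem.trans ?_).symm
      · show Ideal.Quotient.mk (IsLocalRing.maximalIdeal R' ^ k) y = 0 ↔ y ∈ IsLocalRing.maximalIdeal R' ^ k
        exact Ideal.Quotient.eq_zero_iff_mem
      · rw [smul_eq_mul, Ideal.mul_top]
    let e1 : (B ⧸ (a • ⊤ : Submodule R B)) ≃ₗ[R] R' ⧸ IsLocalRing.maximalIdeal R' ^ k :=
      (Submodule.quotEquivOfEq _ _ hker.symm) ≪≫ₗ ev.quotKerEquivOfSurjective hev
    have hsm : (a • ⊤ : Submodule R R') = (IsLocalRing.maximalIdeal R' ^ k).restrictScalars R := by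
      rw [Ideal.smul_top_eq_map, ha]
    let e2 : (R' ⧸ (a • ⊤ : Submodule R R')) ≃ₗ[R] R' ⧸ IsLocalRing.maximalIdeal R' ^ k :=
      Submodule.quotEquivOfEq _ _ hsm ≪≫ₗ Submodule.Quotient.restrictScalarsEquiv R _
    let e3 := (TensorProduct.quotTensorEquivQuotSMul R' a) ≪≫ₗ e2 ≪≫ₗ e1.symm
    exact Module.Flat.of_linearEquiv (e3.extendScalarsOfSurjective (S := R ⧸ a) Ideal.Quotient.mk_surjective).symm
  exact ⟨B, inferInstance, hBn, hB, hBc, hk, inferInstance, Module.FaithfullyFlat.of_flat_of_isLocalHom, hmax⟩

variable {S' S : Scheme.{u}} {g : S' ⟶ S} {D : SchDD g}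

/-- Effectivity over all local rings of the base change gives effectivity over the base change. -/
theorem effAt_of_forall_stalk (hg : SGA1.UnivSubmersive g) [LocallyOfFinitePresentation g] [QuasiCompact g]
    [QuasiSeparated g] [Etale D.obj.hom] [QuasiCompact D.obj.hom] [IsSeparated D.obj.hom] {T : Scheme.{u}}
    (p : T ⟶ S) (h : ∀ x : T, EffAt D (T.fromSpecStalk x ≫ p)) : EffAt D p := by
  let hsq : pullback.fst g p ≫ g = pullback.snd g p ≫ p := pullback.condition
  let E := pullDD hsq D
  have : (SGA1.UnivSubmersive.{u}).IsStableUnderBaseChange :=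
    MorphismProperty.universally_isStableUnderBaseChange _
  have hg₁ : SGA1.UnivSubmersive (pullback.snd g p) := MorphismProperty.pullback_snd g p hg
  let F : SchDDFam (fun _ : PUnit.{1} => pullback.snd g p) := (SchDDFam.ofSchDD (pullback.snd g p)).obj E
  have : Etale (F.obj PUnit.unit).hom := inferInstanceAs (Etale (pullback.snd D.obj.hom (pullback.fst g p)))
  have : QuasiCompact (F.obj PUnit.unit).hom :=
    inferInstanceAs (QuasiCompact (pullback.snd D.obj.hom (pullback.fst g p)))
  have : QuasiSeparated (F.obj PUnit.unit).hom :=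
    inferInstanceAs (QuasiSeparated (pullback.snd D.obj.hom (pullback.fst g p)))
  obtain ⟨U, het, hiso⟩ := exists_fam_of_forall_stalk F hg₁ fun x => effAt_pullDD hsq (T.fromSpecStalk x) (h x)
  exact (effAt_iff hsq).mpr ⟨U, het, (nonempty_fam_iff U F).mp hiso⟩

theorem effAt_fromSpecStalk [IsLocallyNoetherian S] [IsProper g] [Surjective g]
    [LocallyOfFinitePresentation g] [Etale D.obj.hom] [QuasiCompact D.obj.hom] [IsSeparated D.obj.hom] (a : S) :
    EffAt D (S.fromSpecStalk a) := by
  have hg : SGA1.UnivSubmersive g := univSubmersive_of_universallyClosed g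
  suffices H : ∀ (n : ℕ∞) (x : Spec (S.presheaf.stalk a)), x.asIdeal.height = n →
      EffAt D (S.fromSpecStalk (S.fromSpecStalk a x)) by
    have := H _ (IsLocalRing.closedPoint _) rfl
    rwa [Scheme.fromSpecStalk_closedPoint] at this
  intro n
  induction n using WellFoundedLT.induction with
  | _ n IH =>
    intro x hx
    let b := S.fromSpecStalk a x
    obtain ⟨B, _, _, _, _, _, _, hff, hmax⟩ := exists_complete_algClosed' (S.presheaf.stalk b)
    let r : Spec (CommRingCat.of B) ⟶ Spec (S.presheaf.stalk b) :=
      Spec.map (CommRingCat.ofHom (algebraMap (S.presheaf.stalk b) B))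
    obtain ⟨hrf, hrs⟩ := fpqc_SpecMap (S.presheaf.stalk b) B
    have : Flat r := hrf
    have : Surjective r := hrs
    refine effAt_of_fpqc hg r ?_
    let q : Spec (CommRingCat.of B) ⟶ S := r ≫ S.fromSpecStalk b
    let P : (Spec (CommRingCat.of B)).Opens :=
      ⟨{IsLocalRing.closedPoint B}ᶜ, (IsLocalRing.isClosed_singleton_closedPoint B).isOpen_compl⟩
    have hP : EffAt D (P.ι ≫ q) := by
      refine effAt_of_forall_stalk hg _ fun y => ?_
      let b' := (P.ι ≫ q) y
      have hb'b : b' ⤳ b := by
        have : b' ∈ Set.range (S.fromSpecStalk b) := ⟨r (P.ι y), rfl⟩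
        rwa [Scheme.range_fromSpecStalk] at this
      have hne : b' ≠ b := by
        intro e
        have h1 : r (P.ι y) = IsLocalRing.closedPoint (S.presheaf.stalk b) :=
          (S.fromSpecStalk b).isEmbedding.injective (e.trans Scheme.fromSpecStalk_closedPoint.symm)
        refine y.2 (PrimeSpectrum.ext ?_)
        have h2 : IsLocalRing.maximalIdeal (S.presheaf.stalk b) ≤
            Ideal.comap (algebraMap (S.presheaf.stalk b) B) (P.ι y).asIdeal :=
          le_of_eq (congrArg PrimeSpectrum.asIdeal h1).symm
        exact (IsLocalRing.eq_maximalIdeal ((IsLocalRing.maximalIdeal.isMaximal B).eq_of_le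
          (P.ι y).2.ne_top (hmax ▸ Ideal.map_le_iff_le_comap.mpr h2) ▸ IsLocalRing.maximalIdeal.isMaximal B))
      obtain ⟨x', hx'⟩ : b' ∈ Set.range (S.fromSpecStalk a) := by
        rw [Scheme.range_fromSpecStalk]
        exact hb'b.trans ((Scheme.range_fromSpecStalk (x := a)).le ⟨x, rfl⟩)
      have hlt : x'.asIdeal.height < n := by
        rw [← hx]
        have hle : x'.asIdeal ≤ x.asIdeal := by
          refine (PrimeSpectrum.asIdeal_le_asIdeal x' x).2 ((PrimeSpectrum.le_iff_specializes x' x).2 ?_)
          refine (S.fromSpecStalk a).isEmbedding.isInducing.specializes_iff.1 ?_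
          rw [hx']
          exact hb'b
        have hlt : x'.asIdeal < x.asIdeal := lt_of_le_of_ne hle fun e => hne (by
          rw [← hx', show x' = x from PrimeSpectrum.ext e])
        exact Ideal.height_strict_mono_of_isPrime_of_isPrime hlt
      have h := IH _ hlt x' rfl
      rw [hx'] at h
      refine h.comp (Spec.map ((P.ι ≫ q).stalkMap y)) ?_
      exact Scheme.SpecMap_stalkMap_fromSpecStalk _
    let g₁ := pullback.snd g q
    let hsq : pullback.fst g q ≫ g = pullback.snd g q ≫ q := pullback.condition
    let E := pullDD hsq D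
    have : IsProper g₁ := MorphismProperty.pullback_snd g q ‹IsProper g›
    have : Surjective g₁ := MorphismProperty.pullback_snd g q ‹Surjective g›
    have : Etale E.obj.hom := inferInstanceAs (Etale (pullback.snd D.obj.hom (pullback.fst g q)))
    have : QuasiCompact E.obj.hom := inferInstanceAs (QuasiCompact (pullback.snd D.obj.hom (pullback.fst g q)))
    have : IsSeparated E.obj.hom := inferInstanceAs (IsSeparated (pullback.snd D.obj.hom (pullback.fst g q)))
    have : IsNoetherianRing (CommRingCat.of B) := ‹IsNoetherianRing B›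
    obtain ⟨U, π, het, hU⟩ := exists_isQuot_henselian E P rfl (effAt_pullDD hsq P.ι hP)
    exact (effAt_iff hsq).mpr ⟨U, het, hU.nonempty_iso⟩

/-- The descended scheme inherits separatedness and quasi-compactness. -/
theorem exists_effective_of_fam (hg : SGA1.UnivSubmersive g) [QuasiCompact g] [IsSeparated D.obj.hom]
    [QuasiCompact D.obj.hom] (U : Over S) (het : Etale U.hom) (hiso : Nonempty ((toDD g).obj U ≅ D)) :
    ∃ U : Over S, QuasiCompact U.hom ∧ IsSeparated U.hom ∧ Etale U.hom ∧ Nonempty ((toDD g).obj U ≅ D) := by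
  obtain ⟨U', π, hπ, rfl⟩ := exists_isQuot_of_iso hiso
  have : Surjective π := MorphismProperty.of_isPullback (P := @Surjective) hπ.isPullback.flip
    ⟨(MorphismProperty.universally_le _ _ hg).surjective⟩
  have : QuasiCompact (π ≫ U'.hom) := by rw [hπ.isPullback.w]; infer_instance
  have hqc : QuasiCompact U'.hom := ⟨fun W hW hW' => by
    rw [← Set.image_preimage_eq (U'.hom ⁻¹' W) π.surjective]
    exact ((QuasiCompact.isCompact_preimage (f := π ≫ U'.hom) W hW hW').image π.continuous)⟩
  exact ⟨U', hqc, isSeparated_of_univSubmersive hg hπ.isPullback, het, hπ.nonempty_iso⟩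

theorem effective_of_proper_noetherian [IsLocallyNoetherian S] [IsProper g] [Surjective g]
    [LocallyOfFinitePresentation g] (D : SchDD g) [Etale D.obj.hom] [QuasiCompact D.obj.hom]
    [IsSeparated D.obj.hom] :
    ∃ U : Over S, QuasiCompact U.hom ∧ IsSeparated U.hom ∧ Etale U.hom ∧ Nonempty ((toDD g).obj U ≅ D) := by
  have hg : SGA1.UnivSubmersive g := univSubmersive_of_universallyClosed g
  let F : SchDDFam (fun _ : PUnit.{1} => g) := (SchDDFam.ofSchDD g).obj D
  have : Etale (F.obj PUnit.unit).hom := ‹Etale D.obj.hom›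
  have : QuasiCompact (F.obj PUnit.unit).hom := ‹QuasiCompact D.obj.hom›
  have : QuasiSeparated (F.obj PUnit.unit).hom := inferInstanceAs (QuasiSeparated D.obj.hom)
  obtain ⟨U, het, hiso⟩ := exists_fam_of_forall_stalk F hg fun a => effAt_fromSpecStalk (D := D) a
  exact exists_effective_of_fam hg U het ((nonempty_fam_iff U F).mp hiso)

end Groth.Agent.Subtr56.ProperEff
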