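import Groth.Agent.Desc59.DDOpen
import Groth.Agent.FEt83.UHEquiv

/-! A descent datum which is a disjoint union of effective saturated opens is effective. -/

set_option autoImplicit false
set_option backward.isDefEq.respectTransparency false

universe u

open CategoryTheory CategoryTheory.Limits AlgebraicGeometry TopologicalSpace

namespace Groth.Agent.Subtr56.ProperEff

open Desc Groth.Agent.Desc59

variable {X S : Scheme.{u}} {p : X ⟶ S} {D : SchDD p}

theorem exists_isQuot_of_disjoint {σ : Type u} (O : σ → D.obj.left.Opens) (U : σ → Over S)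
    (π : ∀ c, (O c).toScheme ⟶ (U c).left) (h : ∀ c, IsQuotOn D (O c) (U c) (π c))
    (hcov : ∀ v : D.obj.left, ∃ c, v ∈ O c) (hdisj : ∀ c d v, v ∈ O c → v ∈ O d → c = d) :
    ∃ (π' : D.obj.left ⟶ ∐ fun c => (U c).left),
      IsQuot D (Over.mk (Sigma.desc fun c => (U c).hom)) π' := by
  have hO : TopologicalSpace.IsOpenCover O :=
    top_le_iff.mp fun v _ => TopologicalSpace.Opens.mem_iSup.mpr (hcov v)
  let 𝒱 := D.obj.left.openCoverOfIsOpenCover O hO
  let Q : σ → Scheme.{u} := fun c => (U c).left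
  have compat : ∀ {T : Scheme.{u}} {c d : σ} (a : T ⟶ O c) (b : T ⟶ O d),
      a ≫ (O c).ι = b ≫ (O d).ι → a ≫ π c ≫ Sigma.ι Q c = b ≫ π d ≫ Sigma.ι Q d := by
    intro T c d a b e
    by_cases hcd : c = d
    · subst hcd
      rw [(cancel_mono (O c).ι).1 e]
    · have : IsEmpty T := ⟨fun t => hcd (hdisj c d ((O c).ι (a t)) (a t).2 (by
        rw [← Scheme.Hom.comp_apply, e, Scheme.Hom.comp_apply]
        exact (b t).2))⟩
      exact (isInitialOfIsEmpty (X := T)).hom_ext _ _
  let q : D.obj.left ⟶ ∐ Q := 𝒱.glueMorphisms (fun c => π c ≫ Sigma.ι Q c)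
    fun c d => compat _ _ pullback.condition
  have hq : ∀ c, (O c).ι ≫ q = π c ≫ Sigma.ι Q c := fun c => 𝒱.ι_glueMorphisms _ _ c
  let hom : ∐ Q ⟶ S := Sigma.desc fun c => (U c).hom
  have hhom : ∀ c, Sigma.ι Q c ≫ hom = (U c).hom := fun c => Sigma.ι_desc _ _
  have hw : q ≫ hom = D.obj.hom ≫ p := by
    refine Scheme.Cover.hom_ext 𝒱 _ _ fun c => ?_
    show (O c).ι ≫ q ≫ hom = (O c).ι ≫ D.obj.hom ≫ p
    rw [reassoc_of% hq c, hhom, (h c).isPullback.w, Category.assoc]
  have hpre : ∀ c, q ⁻¹ᵁ (Sigma.ι Q c).opensRange = O c := by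
    intro c
    ext v
    refine ⟨fun hv => ?_, fun hv => ⟨π c ⟨v, hv⟩, ?_⟩⟩
    · obtain ⟨d, hd⟩ := hcov v
      obtain ⟨u, hu⟩ := hv
      have e : Sigma.ι Q c u = Sigma.ι Q d (π d ⟨v, hd⟩) := by
        rw [hu]
        exact congrArg (fun f : (O d).toScheme ⟶ ∐ Q => f (⟨v, hd⟩ : (O d).toScheme)) (hq d)
      obtain ⟨rfl, -⟩ := Sigma.mk.inj_iff.mp ((sigmaι_eq_iff _ _ _ _ _).mp e)
      exact hd
    · exact (congrArg (fun f : (O c).toScheme ⟶ ∐ Q => f (⟨v, hv⟩ : (O c).toScheme)) (hq c)).symm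
  refine ⟨q, ?_, ?_⟩
  · let m : D.obj.left ⟶ pullback hom p := pullback.lift q D.obj.hom hw
    suffices IsIso m from IsPullback.of_iso_pullback ⟨hw⟩ (asIso m) (pullback.lift_fst _ _ _) (pullback.lift_snd _ _ _)
    refine (IsZariskiLocalAtTarget.iff_of_openCover (P := MorphismProperty.isomorphisms Scheme)
      ((sigmaOpenCover Q).pullback₁ (pullback.fst hom p))).mpr fun c => ?_
    show IsIso (pullback.snd m (pullback.fst (pullback.fst hom p) (Sigma.ι Q c)))
    have H : IsPullback (O c).ι (π c) q (Sigma.ι Q c) := by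
      refine (IsOpenImmersion.isPullback (π c) (O c).ι (Sigma.ι Q c) q (hq c) ?_).flip
      rw [Scheme.Opens.opensRange_ι]
      exact hpre c
    let E := pullback.fst (pullback.fst hom p) (Sigma.ι Q c)
    let sE := pullback.snd (pullback.fst hom p) (Sigma.ι Q c)
    let r : (O c).toScheme ⟶ pullback (pullback.fst hom p) (Sigma.ι Q c) :=
      pullback.lift ((O c).ι ≫ m) (π c) (by rw [Category.assoc, pullback.lift_fst, hq])
    have hr : IsPullback (O c).ι r m E := by
      refine IsPullback.of_bot ?_ (pullback.lift_fst _ _ _).symm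
        (IsPullback.of_hasPullback (pullback.fst hom p) (Sigma.ι Q c))
      rw [pullback.lift_snd, pullback.lift_fst]
      exact H
    have hE : IsPullback sE (E ≫ pullback.snd hom p) (U c).hom p := by
      rw [← hhom c]
      exact (IsPullback.of_hasPullback (pullback.fst hom p) (Sigma.ι Q c)).flip.paste_vert
        (IsPullback.of_hasPullback hom p)
    have : IsIso r := by
      have e : r = (h c).isPullback.isoPullback.hom ≫ hE.isoPullback.inv := by
        rw [Iso.eq_comp_inv]
        apply pullback.hom_ext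
        · simp [r, sE]
        · simp [r, E, m]
      rw [e]
      infer_instance
    rw [← hr.isoPullback_inv_snd]
    infer_instance
  · refine Scheme.Cover.hom_ext (𝒱.pullback₁ (pullback.snd p (D.obj.hom ≫ p))) _ _ fun c => ?_
    let s := pullback.fst (pullback.snd p (D.obj.hom ≫ p)) (O c).ι
    let b := pullback.snd (pullback.snd p (D.obj.hom ≫ p)) (O c).ι
    have hb : b ≫ (O c).ι = s ≫ pullback.snd p (D.obj.hom ≫ p) := pullback.condition.symm
    have hr : Set.range (s ≫ θ D) ⊆ Set.range (O c).ι := by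
      rw [Scheme.Opens.range_ι]
      refine ((h c).sat.range_iff s).mpr ?_
      rw [← hb]
      rintro _ ⟨x, rfl⟩
      exact (b x).2
    have ha := IsOpenImmersion.lift_fac (O c).ι (s ≫ θ D) hr
    have := (h c).invariant s _ b ha hb
    show s ≫ θ D ≫ q = s ≫ pullback.snd p (D.obj.hom ≫ p) ≫ q
    rw [← reassoc_of% ha, ← reassoc_of% hb, hq, reassoc_of% this]

end Groth.Agent.Subtr56.ProperEff
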